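import Groth.Prelude.Def_DRing2
import Groth.Agent.EtAlg23.GlueFlat
import Groth.Agent.TorMod7.Basic

/-! Vanishing of the first Tor for glueing pairs. -/

set_option autoImplicit false

namespace Groth.Agent.EtGlue26

universe u

open CategoryTheory Limits

variable {R R' : Type u} [CommRing R] [CommRing R'] [Algebra R R'] {f : R}

theorem tor_one_subsingleton (h : EtGlue.IsGlueingPair R R' f) (M : Type u) [AddCommGroup M]
    [Module R M] [Module.Flat R (LocalizedModule (Submonoid.powers f) M)] :
    Subsingleton (DRing.Tor R 1 R' M) := by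
  suffices IsZero (((Tor (ModuleCat.{u} R) 1).obj (ModuleCat.of R R')).obj (ModuleCat.of R M)) from
    ModuleCat.subsingleton_of_isZero this
  obtain ⟨F, _, _, _, b, hb⟩ := EtAlg23.exists_free_cover R M
  rw [TorMod7.isZero_tor_one_iff_of_surjective (ModuleCat.of R R') b hb]
  exact EtAlg23.baseChange_ker_injective h M (LinearMap.exact_subtype_ker_map b) hb
    Subtype.val_injective

theorem flat_loc_of_torsion (Q : Type u) [AddCommGroup Q] [Module R Q]
    (hQ : ∀ q : Q, ∃ n : ℕ, f ^ n • q = 0) :
    Module.Flat R (LocalizedModule (Submonoid.powers f) Q) := by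
  haveI : Subsingleton (LocalizedModule (Submonoid.powers f) Q) :=
    subsingleton_iff_forall_eq 0 |>.2 fun x => by
      induction x using LocalizedModule.induction_on with
      | _ q s =>
        obtain ⟨n, hn⟩ := hQ q
        rw [← LocalizedModule.zero_mk s]
        exact LocalizedModule.mk_eq.2 ⟨(⟨f ^ n, ⟨n, rfl⟩⟩ : Submonoid.powers f), by
          simp only [Submonoid.smul_def, smul_zero, smul_comm (f ^ n) (s : R), hn]⟩
  infer_instance

theorem flat_loc_of_almost_free {M : Type u} [AddCommGroup M] [Module R M] (g : M →ₗ[R] R)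
    (hker : ∀ m, g m = 0 → ∃ n : ℕ, f ^ n • m = 0) (hcoker : ∃ (n : ℕ) (m : M), g m = f ^ n) :
    Module.Flat R (LocalizedModule (Submonoid.powers f) M) := by
  let g' := IsLocalizedModule.map (Submonoid.powers f)
    (LocalizedModule.mkLinearMap (Submonoid.powers f) M)
    (Algebra.linearMap R (Localization.Away f)) g
  have hg' : ∀ m, g' (LocalizedModule.mkLinearMap (Submonoid.powers f) M m) =
      algebraMap R (Localization.Away f) (g m) := fun m => IsLocalizedModule.map_apply _ _ _ _ m
  have hbij : Function.Bijective g' := by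
    refine ⟨(injective_iff_map_eq_zero _).2 fun x hx => ?_, fun y => ?_⟩
    · obtain ⟨n, m, hm⟩ := EtAlg23.loc_surj (f := f) (LocalizedModule.mkLinearMap (Submonoid.powers f) M) x
      have h1 : algebraMap R (Localization.Away f) (g m) = 0 := by
        rw [← hg', ← hm, map_smul, hx, smul_zero]
      obtain ⟨⟨_, k, rfl⟩, hk⟩ := (IsLocalization.map_eq_zero_iff (Submonoid.powers f) _ _).1 h1
      obtain ⟨l, hl⟩ := hker (f ^ k • m) (by rw [map_smul, smul_eq_mul]; exact hk)
      refine EtAlg23.loc_pow_inj (f := f) (LocalizedModule.mkLinearMap (Submonoid.powers f) M) n ?_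
      rw [hm, smul_zero]
      exact (EtAlg23.loc_eq_zero_iff (f := f) _).2 ⟨l + k, by rw [pow_add, mul_smul, hl]⟩
    · obtain ⟨n, m, hm⟩ := hcoker
      obtain ⟨k, r, hr⟩ := EtAlg23.loc_surj (f := f) (Algebra.linearMap R (Localization.Away f)) y
      obtain ⟨z, hz⟩ := ((Module.End.isUnit_iff _).1 (IsLocalizedModule.map_units
        (LocalizedModule.mkLinearMap (Submonoid.powers f) M)
        (⟨f ^ (k + n), k + n, rfl⟩ : Submonoid.powers f))).2
        (LocalizedModule.mkLinearMap (Submonoid.powers f) M (r • m))
      refine ⟨z, EtAlg23.loc_pow_inj (f := f) (Algebra.linearMap R (Localization.Away f)) (k + n) ?_⟩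
      have hz' : f ^ (k + n) • z = LocalizedModule.mkLinearMap (Submonoid.powers f) M (r • m) := hz
      have hr' : f ^ k • y = algebraMap R (Localization.Away f) r := hr
      rw [← map_smul g', hz', hg', map_smul, hm, smul_eq_mul, map_mul, ← hr', pow_add, mul_comm,
        ← Algebra.smul_def, smul_smul, mul_comm]
  haveI : Module.Flat R (Localization.Away f) := IsLocalization.flat _ (Submonoid.powers f)
  exact Module.Flat.of_linearEquiv (LinearEquiv.ofBijective g' hbij)

end Groth.Agent.EtGlue26
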